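import Groth.Prelude.Def_CAlg
import Mathlib.RingTheory.Depth.Rees
import Mathlib.RingTheory.Regular.Flat
import Mathlib.RingTheory.Ideal.AssociatedPrime.Finiteness
import Mathlib.RingTheory.Flat.FaithfullyFlat.Algebra
import Mathlib.LinearAlgebra.TensorProduct.Quotient

/-!
Depth of finite modules over noetherian rings: all maximal regular sequences have the same length;
invariance under faithfully flat base change.
-/

namespace Groth.Agent.Depth

universe u

open RingTheory.Sequence CategoryTheory Abelian Pointwise LocCoh TensorProduct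

section

variable {R : Type u} [CommRing R] [IsNoetherianRing R] {I : Ideal R}

theorem smul_top_quot_ne_top {M : Type u} [AddCommGroup M] [Module R M] {J : Ideal R} (hJ : J ≤ I)
    (hI : I • (⊤ : Submodule R M) ≠ ⊤) :
    I • (⊤ : Submodule R (M ⧸ (J • ⊤ : Submodule R M))) ≠ ⊤ := fun h => by
  apply hI
  have := congrArg (Submodule.comap (J • ⊤ : Submodule R M).mkQ) h
  rwa [Submodule.comap_smul_top_of_surjective I _ (Submodule.mkQ_surjective _),
    Submodule.ker_mkQ, Submodule.comap_top, sup_eq_left.2 (Submodule.smul_mono_left hJ)] at this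

theorem smul_top_quotSMulTop_ne_top {M : Type u} [AddCommGroup M] [Module R M] {r : R} (hr : r ∈ I)
    (hI : I • (⊤ : Submodule R M) ≠ ⊤) :
    I • (⊤ : Submodule R (QuotSMulTop r M)) ≠ ⊤ := fun h => by
  apply hI
  have := congrArg (Submodule.comap (r • ⊤ : Submodule R M).mkQ) h
  rwa [Submodule.comap_smul_top_of_surjective I _ (Submodule.mkQ_surjective _),
    Submodule.ker_mkQ, Submodule.comap_top, ← Submodule.ideal_span_singleton_smul,
    sup_eq_left.2 (Submodule.smul_mono_left ((Ideal.span_singleton_le_iff_mem I).2 hr))] at this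

theorem isRegular_of_isWeaklyRegular {M : Type u} [AddCommGroup M] [Module R M]
    (hI : I • (⊤ : Submodule R M) ≠ ⊤) {rs : List R} (h : IsWeaklyRegular M rs)
    (hmem : ∀ r ∈ rs, r ∈ I) : IsRegular M rs :=
  ⟨h, fun he => hI (top_le_iff.1 (he.le.trans (Submodule.smul_mono_left (Ideal.span_le.2 hmem))))⟩

/-- A regular element lowers the maximal length of a regular sequence by one. -/
theorem exists_seq_quotSMulTop {M : Type u} [AddCommGroup M] [Module R M] [Module.Finite R M]
    (hI : I • (⊤ : Submodule R M) ≠ ⊤) {r : R} (hr : r ∈ I) (hreg : IsSMulRegular M r)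
    {s : List R} (hs : IsWeaklyRegular M s) (hmem : ∀ x ∈ s, x ∈ I) {n : ℕ}
    (hn : s.length = n + 1) :
    ∃ t : List R, t.length = n ∧ (∀ x ∈ t, x ∈ I) ∧ IsWeaklyRegular (QuotSMulTop r M) t := by
  have h2 := ((ModuleCat.exists_isRegular_tfae I (n + 1) (ModuleCat.of R M) hI.lt_top).out 3 1
    rfl rfl).1 ⟨s, hn, hmem, isRegular_of_isWeaklyRegular hI hs hmem⟩
  have h4 := ((ModuleCat.exists_isRegular_tfae I n (ModuleCat.of R (QuotSMulTop r M))
    (smul_top_quotSMulTop_ne_top hr hI).lt_top).out 1 3 rfl rfl).1 fun i hi => by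
      have zero1 := AddCommGrpCat.isZero_of_iff_subsingleton.mpr (h2 i (by omega))
      have zero2 := AddCommGrpCat.isZero_of_iff_subsingleton.mpr (h2 (i + 1) (by omega))
      exact AddCommGrpCat.subsingleton_of_isZero <| ShortComplex.Exact.isZero_of_both_zeros
        ((Ext.covariant_sequence_exact₃' _
          (IsSMulRegular.smulShortComplex_shortExact (M := ModuleCat.of R M) hreg)) i (i + 1) rfl)
        (zero1.eq_zero_of_src _) (zero2.eq_zero_of_tgt _)
  obtain ⟨t, ht, htm, htr⟩ := h4
  exact ⟨t, ht, htm, htr.1⟩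

/-- The predicate "`rs` is a maximal regular sequence in `I`". -/
def IsMaxSeq (I : Ideal R) (M : Type u) [AddCommGroup M] [Module R M] (rs : List R) : Prop :=
  IsWeaklyRegular M rs ∧ (∀ r ∈ rs, r ∈ I) ∧
    ∃ x, x ∉ (Ideal.ofList rs • ⊤ : Submodule R M) ∧ ∀ r ∈ I, r • x ∈ Ideal.ofList rs • (⊤ : Submodule R M)

theorem length_le_of_isMaxSeq {M : Type u} [AddCommGroup M] [Module R M] [Module.Finite R M]
    (hI : I • (⊤ : Submodule R M) ≠ ⊤) {rs : List R} (hrs : IsMaxSeq I M rs) {s : List R}
    (hs : IsWeaklyRegular M s) (hmem : ∀ x ∈ s, x ∈ I) : s.length ≤ rs.length := by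
  induction rs generalizing M s with
  | nil =>
    obtain ⟨-, -, x, hx, hx'⟩ := hrs
    match s with
    | [] => simp
    | a :: s =>
      have h := ((isWeaklyRegular_cons_iff M a s).1 hs).1
      have : a • x = a • (0 : M) := by simpa [Ideal.ofList_nil] using hx' a (hmem a (by simp))
      exact absurd (by simpa [Ideal.ofList_nil] using h this) hx
  | cons r rs ih =>
    obtain ⟨hw, hm, x, hx, hx'⟩ := hrs
    simp only [List.mem_cons, forall_eq_or_imp] at hm
    obtain ⟨hr, hw'⟩ := (isWeaklyRegular_cons_iff M r rs).1 hw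
    match s, hs, hmem with
    | [], _, _ => simp
    | a :: s, hs, hmem =>
      obtain ⟨t, ht, htm, htw⟩ := exists_seq_quotSMulTop hI hm.1 hr hs hmem (n := s.length) rfl
      let e := Submodule.quotOfListConsSMulTopEquivQuotSMulTopInner M r rs
      obtain ⟨y, hy⟩ := Submodule.Quotient.mk_surjective _ (e (Submodule.Quotient.mk x))
      have hmax : IsMaxSeq I (QuotSMulTop r M) rs := by
        refine ⟨hw', hm.2, y, fun hy' => hx ?_, fun a ha => ?_⟩
        · rw [← Submodule.Quotient.mk_eq_zero, hy] at hy'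
          exact (Submodule.Quotient.mk_eq_zero _).1 (e.map_eq_zero_iff.1 hy')
        · rw [← Submodule.Quotient.mk_eq_zero, Submodule.Quotient.mk_smul, hy, ← map_smul,
            ← Submodule.Quotient.mk_smul, (Submodule.Quotient.mk_eq_zero _).2 (hx' a ha), map_zero]
      simpa [← ht] using ih (smul_top_quotSMulTop_ne_top hm.1 hI) hmax htw htm

theorem exists_isMaxSeq {M : Type u} [AddCommGroup M] [Module R M] [Module.Finite R M]
    (hI : I • (⊤ : Submodule R M) ≠ ⊤) : ∃ rs, IsMaxSeq I M rs := by
  let T : Set (Ideal R) :=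
    {J | ∃ rs : List R, IsWeaklyRegular M rs ∧ (∀ r ∈ rs, r ∈ I) ∧ Ideal.ofList rs = J}
  obtain ⟨J, ⟨rs, hw, hm, rfl⟩, hmax⟩ :=
    (wellFounded_gt (α := Ideal R)).has_min T ⟨⊥, [], IsWeaklyRegular.nil R M, by simp, by simp⟩
  refine ⟨rs, hw, hm, ?_⟩
  have hJ : Ideal.ofList rs ≤ I := Ideal.span_le.2 hm
  have hQ := smul_top_quot_ne_top hJ hI
  by_contra hne
  push Not at hne
  have hall : ∀ p ∈ associatedPrimes R (M ⧸ (Ideal.ofList rs • ⊤ : Submodule R M)), ¬ I ≤ p := by
    intro p hp hIp
    obtain ⟨-, f, hf⟩ := (isAssociatedPrime_iff_exists_injective_linearMap _ _).1 hp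
    obtain ⟨x, hx⟩ := Submodule.Quotient.mk_surjective _ (f 1)
    obtain ⟨a, ha, hax⟩ := hne x fun h => by
      rw [← Submodule.Quotient.mk_eq_zero, hx, map_eq_zero_iff f hf, ← (map_one (Ideal.Quotient.mk p)),
        Ideal.Quotient.eq_zero_iff_mem] at h
      exact hp.isPrime.ne_top (p.eq_top_iff_one.2 h)
    apply hax
    rw [← Submodule.Quotient.mk_eq_zero, Submodule.Quotient.mk_smul, hx, ← map_smul,
      Algebra.smul_def, mul_one, Ideal.Quotient.algebraMap_eq,
      Ideal.Quotient.eq_zero_iff_mem.2 (hIp ha), map_zero]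
  obtain ⟨r, hrI, hr⟩ : ∃ r ∈ I,
      IsSMulRegular (M ⧸ (Ideal.ofList rs • ⊤ : Submodule R M)) r := by
    by_contra hno
    push Not at hno
    have hfin := associatedPrimes.finite R (M ⧸ (Ideal.ofList rs • ⊤ : Submodule R M))
    have hsub : (I : Set R) ⊆ ⋃ p ∈ hfin.toFinset, (p : Set R) := by
      simp only [Set.Finite.mem_toFinset]
      rw [biUnion_associatedPrimes_eq_zero_divisors]
      intro a ha
      have := hno a ha
      rw [isSMulRegular_iff_right_eq_zero_of_smul] at this
      push Not at this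
      obtain ⟨x, h1, h2⟩ := this
      exact ⟨x, h2, h1⟩
    obtain ⟨p, hp, hle⟩ := (Ideal.subset_union_prime (f := id) ⊥ ⊥
      fun p hp _ _ => (hfin.mem_toFinset.1 hp).isPrime).1 hsub
    exact hall p (hfin.mem_toFinset.1 hp) hle
  refine hmax _ ⟨rs ++ [r], (isWeaklyRegular_append_iff M rs [r]).2
    ⟨hw, (isWeaklyRegular_singleton_iff _ r).2 hr⟩,
    fun x hx => (List.mem_append.1 hx).elim (hm x) (fun h => by simp_all), rfl⟩ ?_
  rw [Ideal.ofList_append, left_lt_sup, Ideal.ofList_singleton,
    Ideal.span_singleton_le_iff_mem]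
  intro hrJ
  apply hQ
  refine top_le_iff.1 fun x _ => ?_
  obtain ⟨y, rfl⟩ := Submodule.Quotient.mk_surjective _ x
  have : r • (Submodule.Quotient.mk y : M ⧸ (Ideal.ofList rs • ⊤ : Submodule R M)) = r • 0 := by
    rw [smul_zero, ← Submodule.Quotient.mk_smul, Submodule.Quotient.mk_eq_zero]
    exact Submodule.smul_mem_smul hrJ trivial
  rw [hr this]
  exact zero_mem _

theorem idealDepth_eq_length {M : Type u} [AddCommGroup M] [Module R M] [Module.Finite R M]
    (hI : I • (⊤ : Submodule R M) ≠ ⊤) {rs : List R} (h : IsMaxSeq I M rs) :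
    idealDepth I M = rs.length := by
  rw [idealDepth, if_neg hI]
  refine le_antisymm (iSup₂_le fun s ⟨hs, hm⟩ => ?_)
    (le_iSup₂ (f := fun (s : List R) _ => (s.length : ℕ∞)) rs ⟨h.1, h.2.1⟩)
  exact Nat.cast_le.2 (length_le_of_isMaxSeq hI h hs hm)

theorem le_idealDepth_iff {M : Type u} [AddCommGroup M] [Module R M] [Module.Finite R M]
    (hI : I • (⊤ : Submodule R M) ≠ ⊤) (n : ℕ) :
    n ≤ idealDepth I M ↔ ∃ rs : List R, rs.length = n ∧ (∀ r ∈ rs, r ∈ I) ∧ IsWeaklyRegular M rs := by
  obtain ⟨rs, h⟩ := exists_isMaxSeq (M := M) hI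
  rw [idealDepth_eq_length hI h, Nat.cast_le]
  refine ⟨fun hn => ⟨rs.take n, by simpa using hn, fun r hr => h.2.1 r (List.mem_of_mem_take hr), ?_⟩,
    fun ⟨s, hs, hm, hw⟩ => hs ▸ length_le_of_isMaxSeq hI h hw hm⟩
  exact ((isWeaklyRegular_append_iff M (rs.take n) (rs.drop n)).1 (by simpa using h.1)).1

theorem idealDepth_eq_zero_iff {M : Type u} [AddCommGroup M] [Module R M] [Module.Finite R M]
    (hI : I • (⊤ : Submodule R M) ≠ ⊤) :
    idealDepth I M = 0 ↔ ∃ x : M, x ≠ 0 ∧ ∀ r ∈ I, r • x = 0 := by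
  constructor
  · intro h0
    obtain ⟨rs, h⟩ := exists_isMaxSeq (M := M) hI
    rw [idealDepth_eq_length hI h, Nat.cast_eq_zero, List.length_eq_zero_iff] at h0
    subst h0
    obtain ⟨-, -, x, hx, hx'⟩ := h
    simp only [Ideal.ofList_nil, Submodule.bot_smul, Submodule.mem_bot] at hx hx'
    exact ⟨x, hx, hx'⟩
  · rintro ⟨x, hx, hx'⟩
    have h : IsMaxSeq I M [] := ⟨IsWeaklyRegular.nil R M, by simp, x, by
      simpa [Ideal.ofList_nil] using hx, by simpa [Ideal.ofList_nil] using hx'⟩
    simpa using idealDepth_eq_length hI h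

/-- Invariance of depth under faithfully flat base change. -/
theorem idealDepth_baseChange {M : Type u} [AddCommGroup M] [Module R M] [Module.Finite R M]
    (S : Type u) [CommRing S] [Algebra R S] [IsNoetherianRing S] [Module.FaithfullyFlat R S]
    (N : Type u) [AddCommGroup N] [Module R N] [Module S N] [IsScalarTower R S N]
    {f : M →ₗ[R] N} (hf : IsBaseChange S f) :
    idealDepth (I.map (algebraMap R S)) N = idealDepth I M := by
  by_cases hI : I • (⊤ : Submodule R M) = ⊤
  · have : I.map (algebraMap R S) • (⊤ : Submodule S N) = ⊤ := by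
      by_contra h
      exact ((hf.map_smul_top_ne_top_iff_of_faithfullyFlat R M I).1 h) hI
    rw [idealDepth, idealDepth, if_pos hI, if_pos this]
  have hI' := (hf.map_smul_top_ne_top_iff_of_faithfullyFlat R M I).2 hI
  have : Module.Finite S N := Module.Finite.equiv hf.equiv
  obtain ⟨rs, hw, hm, x, hx, hx'⟩ := exists_isMaxSeq (M := M) hI
  have h' : IsMaxSeq (I.map (algebraMap R S)) N (rs.map (algebraMap R S)) := by
    refine ⟨hw.of_flat_of_isBaseChange hf, fun r hr => ?_, f x, fun h => hx ?_, fun r hr => ?_⟩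
    · obtain ⟨a, ha, rfl⟩ := List.mem_map.1 hr
      exact Ideal.mem_map_of_mem _ (hm a ha)
    · rw [← Ideal.map_ofList] at h
      let P : Submodule R M := Ideal.ofList rs • ⊤
      let g : N →ₗ[S] S ⊗[R] (M ⧸ P) := (P.mkQ.baseChange S).comp hf.equiv.symm.toLinearMap
      have hg : g (f x) = 1 ⊗ₜ[R] P.mkQ x := by
        simp [g, show hf.equiv.symm (f x) = 1 ⊗ₜ[R] x from hf.equiv.injective (by simp [hf.equiv_tmul])]
      have hz : ∀ w ∈ (Ideal.ofList rs).map (algebraMap R S) • (⊤ : Submodule S N), g w = 0 := by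
        intro w hw
        refine Submodule.smul_induction_on hw (fun c hc m _ => ?_) fun a b ha hb => by
          rw [map_add, ha, hb, add_zero]
        rw [map_smul]
        generalize g m = z
        induction hc using Submodule.span_induction with
        | mem y hy =>
          obtain ⟨a, ha, rfl⟩ := hy
          induction z using TensorProduct.induction_on with
          | zero => rw [smul_zero]
          | tmul s q =>
            obtain ⟨q, rfl⟩ := Submodule.Quotient.mk_surjective _ q
            rw [algebraMap_smul, TensorProduct.smul_tmul', TensorProduct.smul_tmul,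
              ← Submodule.Quotient.mk_smul, (Submodule.Quotient.mk_eq_zero P).2
              (Submodule.smul_mem_smul ha trivial), TensorProduct.tmul_zero]
          | add a b ha hb => rw [smul_add, ha, hb, add_zero]
        | zero => rw [zero_smul]
        | add a b _ _ ha hb => rw [add_smul, ha, hb, add_zero]
        | smul c a _ ha => rw [smul_eq_mul, mul_smul, ha, smul_zero]
      rw [← Submodule.Quotient.mk_eq_zero]
      refine Module.FaithfullyFlat.tensorProduct_mk_injective (A := R) (B := S) (M ⧸ P) ?_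
      rw [map_zero]
      exact hg.symm.trans (hz _ h)
    · rw [← Ideal.map_ofList]
      induction hr using Submodule.span_induction with
      | mem y hy =>
        obtain ⟨a, ha, rfl⟩ := hy
        rw [algebraMap_smul, ← map_smul]
        clear * - ha hx' hf
        refine Submodule.smul_induction_on (hx' a ha) (fun c hc m _ => ?_) (fun p q hp hq => ?_)
        · rw [map_smul, ← algebraMap_smul S c (f m)]
          exact Submodule.smul_mem_smul (Ideal.mem_map_of_mem _ hc) trivial
        · rw [map_add]; exact add_mem hp hq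
      | zero => simp
      | add y z _ _ h1 h2 => rw [add_smul]; exact add_mem h1 h2
      | smul c y _ h1 => rw [smul_eq_mul, mul_smul]; exact Submodule.smul_mem _ c h1
  rw [idealDepth_eq_length hI' h', idealDepth_eq_length hI ⟨hw, hm, x, hx, hx'⟩, List.length_map]

end

end Groth.Agent.Depth
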