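import Groth.Agent.Depth.Basic
import Groth.Agent.RegLocal.Consequences
import Mathlib.RingTheory.RegularLocalRing.Defs
import Mathlib.RingTheory.Ideal.KrullsHeightTheorem
import Mathlib.RingTheory.Ideal.GoingDown
import Mathlib.RingTheory.KrullDimension.Module

/-!
Flat local extensions of noetherian local rings with trivial closed fibre
(`mS` is the maximal ideal of `S`): dimension, depth, regularity, Cohen–Macaulayness.
-/

namespace Groth.Agent.Depth

universe u

open IsLocalRing LocCoh

theorem depth_congr {R : Type u} [CommRing R] [IsLocalRing R] {M N : Type u} [AddCommGroup M]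
    [Module R M] [AddCommGroup N] [Module R N] (e : M ≃ₗ[R] N) : depth R M = depth R N := by
  have h : ∀ {A B : Type u} [AddCommGroup A] [Module R A] [AddCommGroup B] [Module R B],
      (A ≃ₗ[R] B) → maximalIdeal R • (⊤ : Submodule R A) = ⊤ →
        maximalIdeal R • (⊤ : Submodule R B) = ⊤ := fun {A B} _ _ _ _ e h => by
    have := congrArg (Submodule.map e.toLinearMap) h
    rwa [Submodule.map_smul'', Submodule.map_top, LinearEquiv.range] at this
  unfold depth idealDepth
  by_cases hM : maximalIdeal R • (⊤ : Submodule R M) = ⊤
  · rw [if_pos hM, if_pos (h e hM)]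
  · rw [if_neg hM, if_neg fun hN => hM (h e.symm hN)]
    exact iSup_congr fun rs => by rw [e.isWeaklyRegular_congr rs]

/-- The localization of a ring at a prime, as a localized module. -/
noncomputable def localizedSelfEquiv {R : Type u} [CommRing R] (p : Ideal R) [p.IsPrime] :
    LocalizedModule p.primeCompl R ≃ₗ[Localization.AtPrime p] Localization.AtPrime p :=
  LinearEquiv.extendScalarsOfIsLocalization p.primeCompl _
    (IsLocalizedModule.iso p.primeCompl (Algebra.linearMap R (Localization.AtPrime p)))

theorem depth_localizedSelf {R : Type u} [CommRing R] (p : Ideal R) [p.IsPrime] :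
    depth (Localization.AtPrime p) (LocalizedModule p.primeCompl R) =
      depth (Localization.AtPrime p) (Localization.AtPrime p) :=
  depth_congr (localizedSelfEquiv p)

theorem supportDim_localizedSelf {R : Type u} [CommRing R] (p : Ideal R) [p.IsPrime] :
    Module.supportDim (Localization.AtPrime p) (LocalizedModule p.primeCompl R) =
      ringKrullDim (Localization.AtPrime p) :=
  (Module.supportDim_eq_of_equiv (localizedSelfEquiv p)).trans (Module.supportDim_self_eq_ringKrullDim _)

section

variable (R S : Type u) [CommRing R] [CommRing S] [IsLocalRing R] [IsLocalRing S]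
  [IsNoetherianRing R] [IsNoetherianRing S] [Algebra R S] [Module.Flat R S]
  (h : (maximalIdeal R).map (algebraMap R S) = maximalIdeal S)
include h

omit [IsNoetherianRing R] [IsNoetherianRing S] [Module.Flat R S] in
theorem isLocalHom_of_map_eq : IsLocalHom (algebraMap R S) :=
  ((local_hom_TFAE (algebraMap R S)).out 0 2 rfl rfl).mpr h.le

theorem ringKrullDim_eq_of_map_maximalIdeal : ringKrullDim S = ringKrullDim R := by
  have := isLocalHom_of_map_eq R S h
  have : (maximalIdeal S).LiesOver (maximalIdeal R) := ⟨(((local_hom_TFAE (algebraMap R S)).out 0 4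
    rfl rfl).mp inferInstance).symm⟩
  rw [← maximalIdeal_height_eq_ringKrullDim, ← maximalIdeal_height_eq_ringKrullDim,
    Ideal.height_eq_height_add_of_liesOver_of_hasGoingDown (maximalIdeal R) (maximalIdeal S), h,
    Ideal.map_quotient_self]
  have : Nontrivial (S ⧸ maximalIdeal S) := Ideal.Quotient.nontrivial_iff.2 (maximalIdeal.isMaximal S).ne_top
  rw [Ideal.height_bot, add_zero]

theorem depth_eq_of_map_maximalIdeal : depth S S = depth R R := by
  have := isLocalHom_of_map_eq R S h
  have := Module.FaithfullyFlat.of_flat_of_isLocalHom (A := R) (B := S)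
  unfold depth
  rw [← h]
  exact idealDepth_baseChange S S (IsBaseChange.linearMap R S)

theorem isCohenMacaulayLocalRing_iff_of_map_maximalIdeal :
    IsCohenMacaulayLocalRing S ↔ IsCohenMacaulayLocalRing R := by
  have hd := ringKrullDim_eq_of_map_maximalIdeal R S h
  have hp := depth_eq_of_map_maximalIdeal R S h
  refine ⟨fun hS => { supportDim_eq_depth := ?_ }, fun hR => { supportDim_eq_depth := ?_ }⟩
  · rw [Module.supportDim_self_eq_ringKrullDim, ← hd, ← hp, ← Module.supportDim_self_eq_ringKrullDim]
    exact hS.supportDim_eq_depth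
  · rw [Module.supportDim_self_eq_ringKrullDim, hd, hp, ← Module.supportDim_self_eq_ringKrullDim]
    exact hR.supportDim_eq_depth

theorem isRegularLocalRing_iff_of_map_maximalIdeal :
    IsRegularLocalRing S ↔ IsRegularLocalRing R := by
  have := isLocalHom_of_map_eq R S h
  refine ⟨fun _ => RegLocal.isRegularLocalRing_of_flat R S, fun hR => ?_⟩
  refine IsRegularLocalRing.of_spanFinrank_maximalIdeal_le S ?_
  rw [ringKrullDim_eq_of_map_maximalIdeal R S h, ← hR.spanFinrank_maximalIdeal]
  exact_mod_cast h ▸ Ideal.spanFinrank_map_le_of_fg (algebraMap R S)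
    (IsNoetherian.noetherian (maximalIdeal R))

end

end Groth.Agent.Depth

namespace Groth.Agent.Depth

universe u

open IsLocalRing LocCoh

theorem depth_self_eq_zero_iff {R : Type u} [CommRing R] [IsLocalRing R] [IsNoetherianRing R] :
    depth R R = 0 ↔ maximalIdeal R ∈ associatedPrimes R R := by
  have hI : maximalIdeal R • (⊤ : Submodule R R) ≠ ⊤ := by
    rw [smul_eq_mul, Ideal.mul_top]
    exact (maximalIdeal.isMaximal R).ne_top
  rw [depth, idealDepth_eq_zero_iff hI, AssociatedPrimes.mem_iff, isAssociatedPrime_iff]
  constructor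
  · rintro ⟨x, hx, h⟩
    refine ⟨inferInstance, x, le_antisymm (fun r hr => ?_) ?_⟩
    · rw [Submodule.mem_colon_singleton, Submodule.mem_bot]
      exact h r hr
    · refine le_maximalIdeal fun htop => hx ?_
      have : (1 : R) ∈ (⊥ : Submodule R R).colon {x} := htop ▸ trivial
      simpa using this
  · rintro ⟨-, x, h⟩
    refine ⟨x, fun hx => (maximalIdeal.isMaximal R).ne_top (h.trans ?_), fun r hr => ?_⟩
    · rw [hx, eq_top_iff]
      exact fun r _ => by simp
    · rw [h, Submodule.mem_colon_singleton, Submodule.mem_bot] at hr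
      exact hr

theorem mem_associatedPrimes_iff_depth_eq_zero {R : Type u} [CommRing R] [IsNoetherianRing R]
    (p : Ideal R) [p.IsPrime] :
    p ∈ associatedPrimes R R ↔ depth (Localization.AtPrime p) (Localization.AtPrime p) = 0 := by
  rw [depth_self_eq_zero_iff,
    ← Module.associatedPrimes.preimage_comap_associatedPrimes_eq_associatedPrimes_of_isLocalizedModule
      p.primeCompl (Localization.AtPrime p) (Algebra.linearMap R (Localization.AtPrime p)),
    Set.mem_preimage, show (maximalIdeal (Localization.AtPrime p)).comap (algebraMap R _) = p from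
      IsLocalization.AtPrime.comap_maximalIdeal _ p]

theorem exists_isDVR_iff {R : Type u} [CommRing R] [IsLocalRing R] [IsNoetherianRing R] :
    (∃ _ : IsDomain R, IsDiscreteValuationRing R) ↔ IsRegularLocalRing R ∧ ringKrullDim R = 1 := by
  constructor
  · rintro ⟨_, h⟩
    exact ⟨inferInstance, IsPrincipalIdealRing.ringKrullDim_eq_one R
      (IsDiscreteValuationRing.not_isField R)⟩
  · rintro ⟨hR, hd⟩
    have : IsDomain R := RegLocal.isDomain R
    have hnf : ¬ IsField R := fun h => by
      rw [ringKrullDim_eq_zero_of_isField h] at hd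
      exact zero_ne_one hd
    have h1 : (maximalIdeal R).spanFinrank = 1 := by
      exact_mod_cast hR.spanFinrank_maximalIdeal.trans hd
    refine ⟨this, ((IsDiscreteValuationRing.TFAE R hnf).out 5 0 rfl rfl).1 ?_⟩
    rwa [← spanFinrank_maximalIdeal_eq_finrank_cotangentSpace]

end Groth.Agent.Depth
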